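import Groth.Agent.DecSec.MonoEquiv
import Groth.Agent.DecSec.OnePointStack
import Groth.Agent.Boot.MonoDesc
import Groth.Agent.ASp.Residual
import Groth.Agent.ASp.FpqcSheaf
import Groth.Agent.KPointChart.IsoDef
/-!
A morphism of one-point stacks which is bijective on the isomorphisms between values of one field-valued
point is a monomorphism.
-/

set_option autoImplicit false
set_option backward.isDefEq.respectTransparency false
set_option backward.isDefEq.respectTransparency.types false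
set_option linter.unusedSectionVars false
set_option linter.style.haveILetI false

universe u

open CategoryTheory CategoryTheory.Limits AlgebraicGeometry Opposite

namespace Groth.Agent.ResIsoLib

open _root_.AlgSp Groth.Agent.ASp Groth.Agent.ASt

variable {S : Scheme.{u}} {𝒳 𝒴 : AlgSt.Cat S}

/-- Maps to algebraic spaces are detected after restriction along `c`. -/
def Det {T' T : Over S} (c : T' ⟶ T) : Prop :=
  ∀ ⦃X : Sp S⦄, IsAlgSpace X → ∀ a b : (yon S).obj T ⟶ X, (yon S).map c ≫ a = (yon S).map c ≫ b → a = b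

theorem det_comp {T'' T' T : Over S} {c' : T'' ⟶ T'} {c : T' ⟶ T} (h' : Det c') (h : Det c) : Det (c' ≫ c) :=
  fun _ hX a b e => h hX a b (h' hX _ _ (by simpa only [Functor.map_comp, Category.assoc] using e))

theorem det_of_fppf {T' T : Over S} (c : T' ⟶ T) [Flat c.left] [LocallyOfFinitePresentation c.left]
    [Surjective c.left] : Det c := fun _ _ _ _ e => by
  haveI := epi_yon_map c
  exact (cancel_epi _).1 e

theorem det_of_fpqc {T' T : Over S} (c : T' ⟶ T) [Flat c.left] [Surjective c.left] [QuasiCompact c.left] :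
    Det c :=
  fun _ hX _ _ e => hom_ext_fpqc_single hX c e

/-- Classes restricting to the same class along a detecting morphism are equal. -/
theorem eq_of_det [FibCat.IsFibGrpd 𝒳.p] [FibCat.IsFibGrpd 𝒴.p] {U : Over S} {y : FibCat.overCat U ⥤ᵇ 𝒴}
    {f : 𝒳 ⥤ᵇ 𝒴} (hA : IsAlgSpaceP (fib y f)) {T T' : Over S} {c : T' ⟶ T} (hc : Det c)
    (e e' : ClType (FibCat.fp y f) T) (h : clMap c e = clMap c e') : e = e' := by
  obtain ⟨hs, hA⟩ := hA
  let F : Sp S := ⟨fib y f, hs⟩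
  have hF : IsAlgSpace F := hA
  have := hc hF (KPointChart.homOf (F := F) e) (KPointChart.homOf (F := F) e') (KPointChart.secOf_injective (by
    rw [KPointChart.secOf_map, KPointChart.secOf_map, KPointChart.secOf_homOf, KPointChart.secOf_homOf]
    exact h))
  have h2 := congrArg KPointChart.secOf this
  rwa [KPointChart.secOf_homOf, KPointChart.secOf_homOf] at h2

/-- Parallel vertical morphisms equal after restriction along a detecting morphism are equal. -/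
theorem hom_eq_of_det [FibCat.IsFibGrpd 𝒳.p] (hΔ : AlgSt.RepByAlgSp1 (FibCat.diag (FibCat.toSelf 𝒳)))
    {T' T : Over S} {c : T' ⟶ T} (hc : Det c) {o x x' : 𝒳.obj} (ho : 𝒳.p.obj o = T') (hx : 𝒳.p.obj x = T)
    (hx' : 𝒳.p.obj x' = T) (u v : x ⟶ x') (hu : 𝒳.p.map u = eqToHom (hx.trans hx'.symm))
    (hv : 𝒳.p.map v = eqToHom (hx.trans hx'.symm)) (m : o ⟶ x)
    (hm : 𝒳.p.map m = eqToHom ho ≫ c ≫ eqToHom hx.symm) (h : m ≫ u = m ≫ v) : u = v := by
  let y := objFun x hx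
  let y' := objFun x' hx'
  haveI : IsIso (pullHom x' hx' (𝟙 T)) := by
    have : IsIso (𝒳.p.map (pullHom x' hx' (𝟙 T))) := by rw [map_pullHom]; infer_instance
    exact isIso_of_isIso_map _
  haveI : IsIso (pullHom x hx (𝟙 T)) := by
    have : IsIso (𝒳.p.map (pullHom x hx (𝟙 T))) := by rw [map_pullHom]; infer_instance
    exact isIso_of_isIso_map _
  let φ : (x ⟶ x') → (y.obj (ov (𝟙 T)) ⟶ y'.obj (ov (𝟙 T))) := fun w =>
    pullHom x hx (𝟙 T) ≫ w ≫ inv (pullHom x' hx' (𝟙 T))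
  have hφ : ∀ w : x ⟶ x', 𝒳.p.map w = eqToHom (hx.trans hx'.symm) →
      𝒳.p.map (φ w) = eqToHom (((y.w_obj (ov (𝟙 T))).trans (ov_base _)).trans
        ((ov_base (𝟙 T)).symm.trans (y'.w_obj (ov (𝟙 T))).symm)) := fun w hw => by
    simp only [φ, Functor.map_comp, Functor.map_inv, map_pullHom, hw]
    simp
  let E : ∀ w : x ⟶ x', 𝒳.p.map w = eqToHom (hx.trans hx'.symm) → ClType (FibCat.fp y y') T := fun w hw =>
    fpEl (𝟙 T) (ov (𝟙 T)) (ov_base _) (φ w) (hφ w hw)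
  have hyA : IsAlgSpaceP (fib y y') := (repByAlgSp1_iff.1 (repByAlgSp1_of_diag hΔ y')).2 T y
  let ψ : y.obj (ov c) ⟶ y'.obj (ov c) := facMap (y'.map (ovHom c (Category.comp_id c)))
    (y.map (ovHom c (Category.comp_id c)) ≫ φ u)
    (eqToHom (((y.w_obj (ov c)).trans (ov_base _)).trans ((ov_base c).symm.trans (y'.w_obj (ov c)).symm)))
    (by rw [Functor.map_comp, map_w, map_w, hφ u hu, ov_p_map]; simp)
  let i : y.obj (ov c) ⟶ o := facMap m (pullHom x hx c)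
    (eqToHom ((pull_base x hx c).trans ho.symm)) (by rw [map_pullHom, hm]; simp)
  have hi : i ≫ m = pullHom x hx c := facMap_comp _ _ _ _
  have hP : y.map (ovHom c (Category.comp_id c)) ≫ pullHom x hx (𝟙 T) = pullHom x hx c :=
    objMap_comp x hx (ovHom c (Category.comp_id c) : ov c ⟶ ov (𝟙 T))
  have hC : ∀ w (hw : 𝒳.p.map w = eqToHom (hx.trans hx'.symm)), m ≫ w = m ≫ u →
      clMap c (E w hw) = fpEl c (ov c) (ov_base c) ψ (map_facMap _ _ _ _) := fun w hw e =>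
    clMap_fpEl c (Category.comp_id c) (ovHom c (Category.comp_id c)) (by
      refine Eq.trans ?_ (facMap_comp _ _ _ _).symm
      simp only [φ]
      rw [reassoc_of% hP, reassoc_of% hP, ← hi]
      simp only [Category.assoc]
      rw [← Category.assoc m, e, Category.assoc])
  have hEq : E u hu = E v hv := eq_of_det hyA hc _ _ ((hC u hu rfl).trans (hC v hv h.symm).symm)
  obtain ⟨n, hn, hn'⟩ := fpEl_eq_iff.1 hEq
  obtain rfl : n = 𝟙 (ov (𝟙 T)) := Over.OverMorphism.ext (hn.trans (eqToHom_refl _ _))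
  rw [y'.toFunctor.map_id, Category.comp_id] at hn'
  exact (cancel_mono (inv (pullHom x' hx' (𝟙 T)))).1 ((cancel_epi (pullHom x hx (𝟙 T))).1 hn')

variable [FibCat.IsFibGrpd 𝒳.p] [FibCat.IsFibGrpd 𝒴.p] {P : Over S}

/-- The proof that a morphism between two values lies over the identity. -/
theorem val_eq (q : FibCat.overCat P ⥤ᵇ 𝒳) {T : Over S} (w : T ⟶ P) : 𝒳.p.obj (q.obj (ov w)) = T :=
  (q.w_obj (ov w)).trans (ov_base w)

/-- The morphism is bijective on vertical morphisms between values. -/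
def Tr (g : 𝒳 ⥤ᵇ 𝒴) (q : FibCat.overCat P ⥤ᵇ 𝒳) : Prop :=
  ∀ {T : Over S} (w₁ w₂ : T ⟶ P) (ψ : g.obj (q.obj (ov w₁)) ⟶ g.obj (q.obj (ov w₂))),
    𝒴.p.map ψ = eqToHom (((g.w_obj _).trans (val_eq q w₁)).trans
      ((val_eq q w₂).symm.trans (g.w_obj _).symm)) →
    ∃! a : q.obj (ov w₁) ⟶ q.obj (ov w₂),
      𝒳.p.map a = eqToHom ((val_eq q w₁).trans (val_eq q w₂).symm) ∧ g.map a = ψ

/-- Every object is a value after restriction along a detecting morphism. -/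
def Cov (q : FibCat.overCat P ⥤ᵇ 𝒳) : Prop :=
  ∀ (x : 𝒳.obj) {T : Over S} (hx : 𝒳.p.obj x = T), ∃ (T' : Over S) (c : T' ⟶ T) (w : T' ⟶ P)
    (m : q.obj (ov w) ⟶ x), Det c ∧ 𝒳.p.map m = eqToHom (val_eq q w) ≫ c ≫ eqToHom hx.symm

variable {g : 𝒳 ⥤ᵇ 𝒴} {q : FibCat.overCat P ⥤ᵇ 𝒳}

theorem faithful_of_tr (hΔ : AlgSt.RepByAlgSp1 (FibCat.diag (FibCat.toSelf 𝒳))) (htr : Tr g q) (hcov : Cov q) :
    g.toFunctor.Faithful := by
  refine Boot.faithful_of_kernel g fun x v hv hgv => ?_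
  obtain ⟨T', c, w, m, hc, hm⟩ := hcov x rfl
  let v' := facMap m (m ≫ v) (𝟙 _) (by rw [Functor.map_comp, hv, Category.comp_id, Category.id_comp])
  have hv' : v' ≫ m = m ≫ v := facMap_comp _ _ _ _
  have hpv' : 𝒳.p.map v' = 𝟙 _ := map_facMap _ _ _ _
  have hgv' : g.map v' = 𝟙 _ := ASt.hom_ext (g.map m) (by rw [map_w, hpv']; simp) (by
    rw [← g.toFunctor.map_comp, hv', g.toFunctor.map_comp, hgv, Category.comp_id, Category.id_comp])
  have h1 : v' = 𝟙 _ := (htr w w (𝟙 _) (by rw [CategoryTheory.Functor.map_id, eqToHom_refl])).unique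
    ⟨hpv'.trans (eqToHom_refl _ _).symm, hgv'⟩
    ⟨by rw [CategoryTheory.Functor.map_id, eqToHom_refl], g.toFunctor.map_id _⟩
  rw [h1, Category.id_comp] at hv'
  exact (hom_eq_of_det hΔ hc (val_eq q w) rfl rfl (𝟙 x) v (by simp) (by simp [hv]) m hm
    (by rw [Category.comp_id]; exact hv')).symm

theorem isMono_of_tr (h𝒳 : AlgSt.IsAlgStack Scheme.fppfPrecoverage 𝒳)
    (h𝒴 : AlgSt.IsAlgStack Scheme.fppfPrecoverage 𝒴) (htr : Tr g q) (hcov : Cov q) : AlgSt.IsMono g := by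
  haveI := faithful_of_tr h𝒳.diag htr hcov
  refine repByAlgSpWith_iff.2 ⟨inferInstance, fun U y => ?_⟩
  obtain ⟨hs, hA⟩ := (repByAlgSp1_iff.1 (Boot.repByAlgSp1_of_faithful h𝒳 h𝒴 g)).2 U y
  refine ⟨hs, hA, ?_⟩
  have : ∀ T, Mono ((fibπ y g).app T) := fun T => (mono_iff_injective _).2 fun e e' he => by
    obtain ⟨T⟩ := T
    have he' : fpHom e = fpHom e' := congrArg ULift.down he
    obtain ⟨k, x, hx, φ, hφ, rfl⟩ := fpEl_exists e
    obtain ⟨k', x', hx', φ', hφ', rfl⟩ := fpEl_exists e'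
    obtain rfl : k = k' := (fpHom_fpEl _ _ _ _ _).symm.trans (he'.trans (fpHom_fpEl _ _ _ _ _))
    obtain ⟨T₁, c₁, w₁, m₁, hc₁, hm₁⟩ := hcov x hx
    obtain ⟨T₂, c₂, w₂, m₂, hc₂, hm₂⟩ := hcov (pull x' hx' c₁) (pull_base x' hx' c₁)
    let n : q.obj (ov w₂) ⟶ x' := m₂ ≫ pullHom x' hx' c₁
    have hn : 𝒳.p.map n = eqToHom (val_eq q w₂) ≫ (c₂ ≫ c₁) ≫ eqToHom hx'.symm := by
      rw [Functor.map_comp, hm₂, map_pullHom]; simp
    let l : q.obj (ov (c₂ ≫ w₁)) ⟶ x := q.map (ovHom c₂ rfl) ≫ m₁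
    have hl : 𝒳.p.map l = eqToHom (val_eq q (c₂ ≫ w₁)) ≫ (c₂ ≫ c₁) ≫ eqToHom hx.symm := by
      rw [Functor.map_comp, map_w, hm₁, ov_p_map]; simp
    let yk : y.obj (ov ((c₂ ≫ c₁) ≫ k)) ⟶ y.obj (ov k) := y.map (ovHom (c₂ ≫ c₁) rfl)
    let φ₁ : y.obj (ov ((c₂ ≫ c₁) ≫ k)) ⟶ g.obj (q.obj (ov (c₂ ≫ w₁))) := facMap (g.map l) (yk ≫ φ)
      (eqToHom (((y.w_obj _).trans (ov_base _)).trans ((val_eq q (c₂ ≫ w₁)).symm.trans (g.w_obj _).symm))) (by
        simp only [Functor.map_comp, yk, map_w, hl, hφ, ov_p_map]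
        simp)
    let φ₂ : y.obj (ov ((c₂ ≫ c₁) ≫ k)) ⟶ g.obj (q.obj (ov w₂)) := facMap (g.map n) (yk ≫ φ')
      (eqToHom (((y.w_obj _).trans (ov_base _)).trans ((val_eq q w₂).symm.trans (g.w_obj _).symm))) (by
        simp only [Functor.map_comp, yk, map_w, hn, hφ', ov_p_map]
        simp)
    have hφ₁ : 𝒴.p.map φ₁ = eqToHom _ := map_facMap _ _ _ _
    have hφ₂ : 𝒴.p.map φ₂ = eqToHom _ := map_facMap _ _ _ _
    haveI : IsIso φ₁ := isIso_of_vert φ₁ hφ₁
    obtain ⟨α, ⟨hα₁, hα₂⟩, -⟩ := htr (c₂ ≫ w₁) w₂ (inv φ₁ ≫ φ₂) (by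
      rw [Functor.map_comp, Functor.map_inv, hφ₂]
      simp [hφ₁])
    refine eq_of_det ⟨hs, hA⟩ (det_comp hc₂ hc₁) _ _ ?_
    rw [clMap_fpEl (c₂ ≫ c₁) rfl (hx' := val_eq q (c₂ ≫ w₁)) (φ' := φ₁) (hφ' := hφ₁) l
        (facMap_comp _ _ _ _).symm,
      clMap_fpEl (c₂ ≫ c₁) rfl (hx' := val_eq q w₂) (φ' := φ₂) (hφ' := hφ₂) n (facMap_comp _ _ _ _).symm]
    exact fpEl_eq_iff.2 ⟨α, hα₁, by rw [hα₂, IsIso.hom_inv_id_assoc]⟩
  haveI : Mono (fibπ y g) := NatTrans.mono_of_mono_app _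
  exact (sheafToPresheaf _ _).mono_of_mono_map (inferInstanceAs (Mono (fibπ y g)))

/-- Any field-valued point of a stack with one point and an fppf field-valued point reaches every object. -/
theorem cov_of_point {k' K₀ : Type u} [Field k'] [Field K₀] {a' : Spec (CommRingCat.of k') ⟶ S}
    {a : Spec (CommRingCat.of K₀) ⟶ S} (z : FibCat.overCat (Over.mk a') ⥤ᵇ 𝒳)
    (hzp : AlgSt.RepByAlgSpWith (LocP @LocallyOfFinitePresentation) z)
    (hzs : AlgSt.RepByAlgSpWith IsSurjectiveMor z) (hzf : AlgSt.RepByAlgSpWith (LocP @Flat) z)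
    [Subsingleton (AlgSt.Points 𝒳)] (q : FibCat.overCat (Over.mk a) ⥤ᵇ 𝒳) : Cov q := by
  let pz : AlgSt.FPt 𝒳 := { K := k', str := a', obj := z.obj (ov (𝟙 _)), lies := val_eq z _ }
  let pq : AlgSt.FPt 𝒳 := { K := K₀, str := a, obj := q.obj (ov (𝟙 _)), lies := val_eq q _ }
  obtain ⟨r, α, β, -⟩ := mk_eq_mk_iff.1 (Subsingleton.elim (AlgSt.Points.mk pz) (AlgSt.Points.mk pq))
  let α' : r.obj ⟶ z.obj (ov (𝟙 _)) := α
  let β' : r.obj ⟶ q.obj (ov (𝟙 _)) := β
  let E : Over S := Over.mk r.str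
  let πz : E ⟶ Over.mk a' := eqToHom r.lies.symm ≫ 𝒳.p.map α' ≫ eqToHom (val_eq z _)
  let πq : E ⟶ Over.mk a := eqToHom r.lies.symm ≫ 𝒳.p.map β' ≫ eqToHom (val_eq q _)
  let ez := facMap (z.map (toTop (ov πz))) α' (eqToHom (r.lies.trans (z.w_obj (ov πz)).symm))
    (by rw [map_toTop]; simp [πz])
  let eq' := facMap (q.map (toTop (ov πq))) β' (eqToHom (r.lies.trans (q.w_obj (ov πq)).symm))
    (by rw [map_toTop]; simp [πq])
  haveI : IsIso eq' := isIso_of_vert eq' (map_facMap _ _ _ _)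
  let θ : q.obj (ov πq) ⟶ z.obj (ov πz) := inv eq' ≫ ez
  have hθ : 𝒳.p.map θ = eqToHom ((val_eq q πq).trans (val_eq z πz).symm) := by
    simp only [θ, ez, eq', Functor.map_comp, Functor.map_inv, map_facMap]
    simp
  intro x T hx
  obtain ⟨V, l, hl₁, hl₂, hl₃, ω, hω, φ, hφ⟩ := Boot.exists_fppf_lift hzf hzp hzs (objFun x hx)
  obtain ⟨X, ⟨⟨⟩⟩, u⟩ := ω
  obtain rfl : X = V := hω
  haveI : Flat πz.left := by
    rw [← Spec.map_preimage πz.left, HasRingHomProperty.Spec_iff (P := @Flat)]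
    exact flat_of_isField _ (Field.toIsField _)
  haveI : Surjective πz.left := ⟨fun t => ⟨IsLocalRing.closedPoint r.K,
    @Subsingleton.elim _ (inferInstanceAs (Subsingleton (PrimeSpectrum k'))) _ _⟩⟩
  haveI : IsAffine E.left := inferInstanceAs (IsAffine (Spec (CommRingCat.of r.K)))
  haveI : IsAffine (Over.mk a').left := inferInstanceAs (IsAffine (Spec (CommRingCat.of k')))
  haveI : QuasiCompact πz.left := inferInstance
  have sq := isPullback_left (IsPullback.of_hasPullback u πz)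
  haveI : Flat (pullback.fst u πz).left := MorphismProperty.of_isPullback (P := @Flat) sq.flip ‹_›
  haveI : Surjective (pullback.fst u πz).left := MorphismProperty.of_isPullback (P := @Surjective) sq.flip ‹_›
  haveI : QuasiCompact (pullback.fst u πz).left :=
    MorphismProperty.of_isPullback (P := @QuasiCompact) sq.flip ‹_›
  let c₁ := pullback.fst u πz
  let v := pullback.snd u πz
  have hcv : c₁ ≫ u = v ≫ πz := pullback.condition
  haveI := hl₁
  haveI := hl₂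
  haveI := hl₃
  let θv : q.obj (ov (v ≫ πq)) ⟶ z.obj (ov (v ≫ πz)) := facMap (z.map (ovHom v rfl))
    (q.map (ovHom v rfl) ≫ θ) (eqToHom ((val_eq q (v ≫ πq)).trans (val_eq z (v ≫ πz)).symm))
    (by rw [Functor.map_comp, map_w, map_w, hθ, ov_p_map, ov_p_map]; simp)
  haveI : IsIso φ := isIso_of_vert φ hφ
  refine ⟨_, c₁ ≫ l, v ≫ πq, θv ≫ z.map (ovHom c₁ hcv : ov (v ≫ πz) ⟶ ov u) ≫ inv φ ≫ pullHom x hx l,
    det_comp (det_of_fpqc c₁) (det_of_fppf l), ?_⟩
  simp only [Functor.map_comp, Functor.map_inv]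
  rw [map_facMap, map_w, ov_p_map]
  erw [map_pullHom]
  simp [hφ]

end Groth.Agent.ResIsoLib
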