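import Groth.Agent.ResIsoLib.Main
/-!
Bijectivity on isomorphisms between values from a comparison of fibre squares, and its transfer to
full subcategories.
-/

set_option autoImplicit false
set_option backward.isDefEq.respectTransparency false
set_option backward.isDefEq.respectTransparency.types false
set_option linter.unusedSectionVars false
set_option linter.style.haveILetI false

universe u

open CategoryTheory CategoryTheory.Limits AlgebraicGeometry Opposite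

namespace Groth.Agent.ResIsoLib

open Groth.Agent.ASt

variable {S : Scheme.{u}} {𝒳 𝒴 𝒵 𝒵' : AlgSt.Cat S} [FibCat.IsFibGrpd 𝒳.p] [FibCat.IsFibGrpd 𝒴.p]
  [FibCat.IsFibGrpd 𝒵.p] [FibCat.IsFibGrpd 𝒵'.p] {P : Over S}

theorem map_eq_of_vert_image (f : 𝒳 ⥤ᵇ 𝒴) {x x' : 𝒳.obj} (e : 𝒳.p.obj x = 𝒳.p.obj x') (a : x ⟶ x')
    (h : 𝒴.p.map (f.map a) = eqToHom ((f.w_obj x).trans (e.trans (f.w_obj x').symm))) :
    𝒳.p.map a = eqToHom e := by
  rw [map_w] at h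
  rw [← cancel_epi (eqToHom (f.w_obj x)), ← cancel_mono (eqToHom (f.w_obj x').symm)]
  simpa using h

theorem tr_of_fpLift (f : 𝒳 ⥤ᵇ 𝒴) (p : FibCat.overCat P ⥤ᵇ 𝒳)
    (e : BasedFunctor.comp (FibCat.fpFst p p) (BasedFunctor.comp p f) ≅
      BasedFunctor.comp (FibCat.fpSnd p p) (BasedFunctor.comp p f))
    (he : ∀ c, e.hom.toNatTrans.app c = f.map c.obj.iso.hom)
    (hiso : FibCat.IsEquivOver (FibCat.fpLift (FibCat.fpFst p p) (FibCat.fpSnd p p) e)) :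
    Tr f p := by
  obtain ⟨hfull, -, hess⟩ := vert_of_isEquivOver hiso
  intro T w₁ w₂ ψ hψ
  haveI : IsIso ψ := isIso_of_vert ψ hψ
  let o : (FibCat.fp (BasedFunctor.comp p f) (BasedFunctor.comp p f)).obj :=
    fpMk (ov w₁) (ov w₂) rfl (asIso ψ) (hψ.trans rfl)
  obtain ⟨O, hO, ι, hι⟩ := hess o
  let u₁ : O.obj.fst ⟶ ov w₁ := ι.hom.hom.fst
  let u₂ : O.obj.snd ⟶ ov w₂ := ι.hom.hom.snd
  haveI : IsIso u₁ := ⟨ι.inv.hom.fst, congrArg (fun m => m.hom.fst) ι.hom_inv_id,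
    congrArg (fun m => m.hom.fst) ι.inv_hom_id⟩
  have hw : f.map (p.map u₁) ≫ ψ = f.map O.obj.iso.hom ≫ f.map (p.map u₂) := by
    rw [← he O]
    exact ι.hom.hom.w
  have ha : f.map (inv (p.map u₁) ≫ O.obj.iso.hom ≫ p.map u₂) = ψ := by
    rw [f.toFunctor.map_comp, f.toFunctor.map_comp, f.toFunctor.map_inv, IsIso.inv_comp_eq]
    exact hw.symm
  refine ⟨_, ⟨map_eq_of_vert_image f ((val_eq p w₁).trans (val_eq p w₂).symm) _ (by rw [ha]; exact hψ), ha⟩, ?_⟩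
  rintro a' ⟨hpa', hfa'⟩
  haveI : IsIso a' := isIso_of_vert a' hpa'
  generalize hA : inv (p.map u₁) ≫ O.obj.iso.hom ≫ p.map u₂ = A at ha ⊢
  have hpA : 𝒳.p.map A = eqToHom ((val_eq p w₁).trans (val_eq p w₂).symm) :=
    map_eq_of_vert_image f _ _ (by rw [ha]; exact hψ)
  haveI : IsIso A := isIso_of_vert A hpA
  let O₁ : (FibCat.fp p p).obj := fpMk (ov w₁) (ov w₂) rfl (asIso a') (hpa'.trans rfl)
  let O₂ : (FibCat.fp p p).obj := fpMk (ov w₁) (ov w₂) rfl (asIso A) (hpA.trans rfl)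
  let L := FibCat.fpLift (FibCat.fpFst p p) (FibCat.fpSnd p p) e
  obtain ⟨m, hm⟩ := hfull.map_surjective (X := O₁) (Y := O₂) (fpHomMk (m := L.obj O₁) (n := L.obj O₂)
    (𝟙 (ov w₁)) (𝟙 (ov w₂)) (by
      change f.map (p.map (𝟙 (ov w₁))) ≫ e.hom.toNatTrans.app O₂ = e.hom.toNatTrans.app O₁ ≫ f.map (p.map (𝟙 (ov w₂)))
      rw [he O₁, he O₂]
      change f.map (p.map (𝟙 (ov w₁))) ≫ f.map A = f.map a' ≫ f.map (p.map (𝟙 (ov w₂)))
      rw [ha, hfa', p.toFunctor.map_id, p.toFunctor.map_id, f.toFunctor.map_id, f.toFunctor.map_id, Category.id_comp,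
        Category.comp_id]))
  have h1 : m.hom.fst = 𝟙 (ov w₁) := congrArg (fun k => k.hom.fst) hm
  have h2 : m.hom.snd = 𝟙 (ov w₂) := congrArg (fun k => k.hom.snd) hm
  have h3 : p.map m.hom.fst ≫ A = a' ≫ p.map m.hom.snd := m.hom.w
  rw [h1, h2] at h3
  erw [p.toFunctor.map_id, p.toFunctor.map_id, Category.id_comp, Category.comp_id] at h3
  exact h3.symm

/-- Transfer along fully faithful functors. -/
theorem tr_transfer (f : 𝒳 ⥤ᵇ 𝒴) (g : 𝒵 ⥤ᵇ 𝒵') (i : 𝒵 ⥤ᵇ 𝒳) (i' : 𝒵' ⥤ᵇ 𝒴) [i.toFunctor.Full]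
    [i.toFunctor.Faithful] [i'.toFunctor.Faithful] (θg : BasedFunctor.comp g i' ≅ BasedFunctor.comp i f)
    (p : FibCat.overCat P ⥤ᵇ 𝒳) (q : FibCat.overCat P ⥤ᵇ 𝒵) (θ : BasedFunctor.comp q i ≅ p)
    (h : Tr f p) : Tr g q := by
  intro T w₁ w₂ ψ hψ
  let ν := (BasedNatTrans.forgetful _ _).mapIso θ
  let μ := (BasedNatTrans.forgetful _ _).mapIso θg
  have hν : ∀ o, 𝒳.p.map (ν.hom.app o) = eqToHom ((BasedFunctor.w_obj _ o).trans (p.w_obj o).symm) := fun o =>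
    map_app _ _ θ.hom o
  have hν' : ∀ o, 𝒳.p.map (ν.inv.app o) = eqToHom ((p.w_obj o).trans (BasedFunctor.w_obj _ o).symm) := fun o =>
    map_app _ _ θ.inv o
  have hμ : ∀ o, 𝒴.p.map (μ.hom.app o) = eqToHom ((BasedFunctor.w_obj _ o).trans (BasedFunctor.w_obj _ o).symm) :=
    fun o => map_app _ _ θg.hom o
  have hμ' : ∀ o, 𝒴.p.map (μ.inv.app o) = eqToHom ((BasedFunctor.w_obj _ o).trans (BasedFunctor.w_obj _ o).symm) :=
    fun o => map_app _ _ θg.inv o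
  let ψ' : f.obj (p.obj (ov w₁)) ⟶ f.obj (p.obj (ov w₂)) :=
    f.map (ν.inv.app (ov w₁)) ≫ μ.inv.app (q.obj (ov w₁)) ≫ i'.map ψ ≫ μ.hom.app (q.obj (ov w₂)) ≫
      f.map (ν.hom.app (ov w₂))
  obtain ⟨a', ⟨hpa', hfa'⟩, huniq⟩ := h w₁ w₂ ψ' (by
    simp only [ψ', Functor.map_comp]
    rw [map_w f, map_w f, map_w i', hν, hν', hμ, hμ', hψ]
    simp)
  have key : ∀ a : q.obj (ov w₁) ⟶ q.obj (ov w₂), g.map a = ψ ↔
      f.map (ν.inv.app (ov w₁) ≫ i.map a ≫ ν.hom.app (ov w₂)) = ψ' := fun a => by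
    have nat : i'.map (g.map a) ≫ μ.hom.app (q.obj (ov w₂)) = μ.hom.app (q.obj (ov w₁)) ≫ f.map (i.map a) :=
      μ.hom.naturality a
    have e1 : f.map (ν.inv.app (ov w₁) ≫ i.map a ≫ ν.hom.app (ov w₂)) = f.map (ν.inv.app (ov w₁)) ≫
        μ.inv.app (q.obj (ov w₁)) ≫ i'.map (g.map a) ≫ μ.hom.app (q.obj (ov w₂)) ≫ f.map (ν.hom.app (ov w₂)) := by
      rw [reassoc_of% nat, Iso.inv_hom_id_app_assoc, f.toFunctor.map_comp, f.toFunctor.map_comp]
    refine ⟨fun h => by rw [e1, h], fun h => ?_⟩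
    rw [e1] at h
    refine i'.toFunctor.map_injective ?_
    exact (cancel_mono (μ.hom.app (q.obj (ov w₂)) ≫ f.map (ν.hom.app (ov w₂)))).1
      ((cancel_epi (μ.inv.app (q.obj (ov w₁)))).1 ((cancel_epi (f.map (ν.inv.app (ov w₁)))).1 h))
  let a₀ := i.toFunctor.preimage (ν.hom.app (ov w₁) ≫ a' ≫ ν.inv.app (ov w₂))
  have ha₀ : ν.inv.app (ov w₁) ≫ i.map a₀ ≫ ν.hom.app (ov w₂) = a' := by
    simp only [a₀, Functor.map_preimage, Category.assoc, Iso.inv_hom_id_app, Category.comp_id,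
      Iso.inv_hom_id_app_assoc]
    erw [Category.comp_id]
  refine ⟨a₀, ⟨map_eq_of_vert_image i _ _ ?_, (key a₀).2 (by rw [ha₀, hfa'])⟩, fun a ha => ?_⟩
  · simp only [a₀, Functor.map_preimage, Functor.map_comp, hν, hν', hpa']
    simp
  · have h2 := huniq _ ⟨by
      simp only [Functor.map_comp]
      rw [hν, hν', map_w i, ha.1]
      simp, (key a).1 ha.2⟩
    refine i.toFunctor.map_injective ?_
    rw [← cancel_epi (ν.inv.app (ov w₁)), ← cancel_mono (ν.hom.app (ov w₂)), Category.assoc, Category.assoc, h2, ha₀]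

end Groth.Agent.ResIsoLib
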